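import Groth.Agent.ExalLib.Basic
import Mathlib

/-!
# Extensions by a module killed by an ideal: truncations

If `J` kills the kernel module `L` of an extension `E → B` of a Noetherian ring `B`, then a power of
the preimage of `J` in `E` meets `L` trivially, with an exponent independent of the extension
(Artin–Rees).  Hence `E` is the fibre product of `B` and a truncation of `E`.
-/

set_option autoImplicit false

universe u v w

namespace Groth.Agent.ExalTrunc

open Exal

variable {A : Type u} {B L : Type v} [CommRing A] [CommRing B] [Algebra A B] [AddCommGroup L] [Module B L]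

/-- The preimage of an ideal in the middle ring. -/
def liftIdeal (X : Ext A B L) (J : Ideal B) : Ideal X.E := J.comap X.proj

theorem mem_liftIdeal {X : Ext A B L} {J : Ideal B} {x : X.E} : x ∈ liftIdeal X J ↔ X.proj x ∈ J :=
  Iff.rfl

theorem map_liftIdeal_pow (X : Ext A B L) (J : Ideal B) (n : ℕ) :
    (liftIdeal X J ^ n).map X.proj = J ^ n := by
  rw [Ideal.map_pow, liftIdeal, Ideal.map_comap_of_surjective _ X.isExtension.proj_surjective]

theorem proj_mem_pow {X : Ext A B L} {J : Ideal B} {n : ℕ} {x : X.E} (hx : x ∈ liftIdeal X J ^ n) :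
    X.proj x ∈ J ^ n :=
  map_liftIdeal_pow X J n ▸ Ideal.mem_map_of_mem _ hx

theorem exists_mem_pow_of_mem (X : Ext A B L) (J : Ideal B) {n : ℕ} {b : B} (hb : b ∈ J ^ n) :
    ∃ x ∈ liftIdeal X J ^ n, X.proj x = b := by
  rw [← map_liftIdeal_pow X J n] at hb
  exact (Ideal.mem_map_iff_of_surjective _ X.isExtension.proj_surjective).1 hb

theorem mul_incl_eq_zero {X : Ext A B L} {J : Ideal B} (hL : ∀ j ∈ J, ∀ z : L, j • z = 0) {x : X.E}
    (hx : x ∈ liftIdeal X J) (z : L) : x * X.incl z = 0 := by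
  rw [X.isExtension.mul_incl, hL _ hx z, map_zero]

theorem mul_eq_zero_of_proj {X : Ext A B L} {J : Ideal B} (hL : ∀ j ∈ J, ∀ z : L, j • z = 0) {x y : X.E}
    (hx : x ∈ liftIdeal X J) (hy : X.proj y = 0) : x * y = 0 := by
  obtain ⟨z, rfl⟩ := (X.isExtension.exact y).1 hy
  exact mul_incl_eq_zero hL hx z

/-- Artin–Rees: a uniform power of the preimage of `J` meets the kernel module trivially. -/
theorem exists_uniform [IsNoetherianRing B] (J : Ideal B) (hL : ∀ j ∈ J, ∀ z : L, j • z = 0) :
    ∃ n : ℕ, ∀ N, n ≤ N → ∀ (X : Ext A B L) (x : X.E),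
      x ∈ liftIdeal X J ^ (N + 1) → X.proj x = 0 → x = 0 := by
  classical
  obtain ⟨d, a, ha⟩ := Submodule.fg_iff_exists_fin_generating_family.1 (IsNoetherian.noetherian J)
  let π : (Fin d → B) →ₗ[B] B := Fintype.linearCombination B a
  obtain ⟨k, hk⟩ := Ideal.exists_pow_inf_eq_pow_smul J (LinearMap.ker π)
  refine ⟨k + 1, fun N hN X x hx hpx => ?_⟩
  choose e he using fun i => X.isExtension.proj_surjective (a i)
  have heM : ∀ i, e i ∈ liftIdeal X J := fun i => by
    rw [mem_liftIdeal, he, ← ha]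
    exact Submodule.subset_span ⟨i, rfl⟩
  have hrepr : ∃ w : Fin d → X.E, (∀ i, w i ∈ liftIdeal X J ^ N) ∧ x = ∑ i, w i * e i := by
    rw [pow_succ] at hx
    refine Submodule.mul_induction_on hx (fun u hu v hv => ?_) (fun y z ⟨w, hw, hy⟩ ⟨w', hw', hz⟩ =>
      ⟨w + w', fun i => add_mem (hw i) (hw' i), by
        rw [hy, hz, ← Finset.sum_add_distrib]
        exact Finset.sum_congr rfl fun i _ => (add_mul _ _ _).symm⟩)
    have hv' : X.proj v ∈ J := hv
    rw [← ha] at hv'
    obtain ⟨r, hr⟩ := (Submodule.mem_span_range_iff_exists_fun B).1 hv'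
    choose r' hr' using fun i => X.isExtension.proj_surjective (r i)
    refine ⟨fun i => u * r' i, fun i => Ideal.mul_mem_right _ _ hu, ?_⟩
    have h0 : X.proj (v - ∑ i, r' i * e i) = 0 := by
      simp [map_sub, map_sum, hr', he, ← hr]
    have huM : u ∈ liftIdeal X J := Ideal.pow_le_self (by omega) hu
    have := mul_eq_zero_of_proj hL huM h0
    rw [mul_sub, sub_eq_zero, Finset.mul_sum] at this
    exact this.trans (Finset.sum_congr rfl fun i _ => (mul_assoc _ _ _).symm)
  obtain ⟨w, hw, rfl⟩ := hrepr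
  let v : Fin d → B := fun i => X.proj (w i)
  have hvK : v ∈ LinearMap.ker π := by
    rw [LinearMap.mem_ker]
    simp only [π, Fintype.linearCombination_apply, v, smul_eq_mul]
    rw [← hpx, map_sum]
    exact Finset.sum_congr rfl fun i _ => by rw [map_mul, he]
  have hvJ : v ∈ J ^ N • (⊤ : Submodule B (Fin d → B)) := by
    rw [← Finset.univ_sum_single v]
    refine Submodule.sum_mem _ fun i _ => ?_
    have : Pi.single i (v i) = v i • (Pi.single i 1 : Fin d → B) := by
      rw [← Pi.single_smul, smul_eq_mul, mul_one]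
    rw [this]
    exact Submodule.smul_mem_smul (proj_mem_pow (hw i)) trivial
  have hle : J ^ (N - k) • (J ^ k • ⊤ ⊓ LinearMap.ker π) ≤ J • LinearMap.ker π :=
    Submodule.smul_mono (Ideal.pow_le_self (by omega)) inf_le_right
  have hv : v ∈ J • LinearMap.ker π := hle (hk N (by omega) ▸ Submodule.mem_inf.2 ⟨hvJ, hvK⟩)
  let P : (Fin d → B) → Prop := fun v => ∀ w : Fin d → X.E,
    (∀ i, X.proj (w i) = v i) → ∑ i, w i * e i = 0
  suffices H : P v from H w fun _ => rfl
  refine Submodule.smul_induction_on hv (fun μ hμ q hq w hw => ?_) (fun v₁ v₂ h₁ h₂ w hw => ?_)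
  · obtain ⟨μ', rfl⟩ := X.isExtension.proj_surjective μ
    choose q' hq' using fun i => X.isExtension.proj_surjective (q i)
    have h0 : X.proj (∑ i, q' i * e i) = 0 := by
      rw [LinearMap.mem_ker] at hq
      simp only [π, Fintype.linearCombination_apply, smul_eq_mul] at hq
      rw [← hq, map_sum]
      exact Finset.sum_congr rfl fun i _ => by rw [map_mul, he, hq']
    have h1 : ∀ i, w i * e i = μ' * (q' i * e i) := fun i => by
      have h : X.proj (w i - μ' * q' i) = 0 := by
        rw [map_sub, map_mul, hw, hq', Pi.smul_apply, smul_eq_mul, sub_self]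
      have := mul_eq_zero_of_proj hL (heM i) h
      rw [mul_sub, sub_eq_zero] at this
      rw [mul_comm, this]; ring
    rw [Finset.sum_congr rfl fun i _ => h1 i, ← Finset.mul_sum]
    exact mul_eq_zero_of_proj hL hμ h0
  · choose w₁ hw₁ using fun i => X.isExtension.proj_surjective (v₁ i)
    have e₁ := h₁ w₁ hw₁
    have e₂ := h₂ (w - w₁) fun i => by
      rw [Pi.sub_apply, map_sub, hw, hw₁, Pi.add_apply, add_sub_cancel_left]
    simp only [Pi.sub_apply, sub_mul, Finset.sum_sub_distrib, e₁, sub_zero] at e₂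
    exact e₂

section Pair

variable {X : Ext A B L} {J : Ideal B} {N : ℕ}
  (hX : ∀ x : X.E, x ∈ liftIdeal X J ^ N → X.proj x = 0 → x = 0)

include hX in
theorem eq_of_trunc {x y : X.E} (h₁ : X.proj x = X.proj y)
    (h₂ : Ideal.Quotient.mk (liftIdeal X J ^ N) x = Ideal.Quotient.mk (liftIdeal X J ^ N) y) : x = y :=
  sub_eq_zero.1 (hX _ (Ideal.Quotient.eq.1 h₂) (by rw [map_sub, h₁, sub_self]))

/-- A truncation of the middle ring sees exactly the classes modulo `J ^ N`. -/
theorem exists_of_trunc (x₀ : X.E) {b : B} (h : b - X.proj x₀ ∈ J ^ N) :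
    ∃ x, X.proj x = b ∧
      Ideal.Quotient.mk (liftIdeal X J ^ N) x = Ideal.Quotient.mk (liftIdeal X J ^ N) x₀ := by
  obtain ⟨y, hy, hy'⟩ := exists_mem_pow_of_mem X J h
  refine ⟨x₀ + y, by rw [map_add, hy']; ring, ?_⟩
  rw [Ideal.Quotient.eq, add_sub_cancel_left]
  exact hy

include hX in
/-- An algebra map into the middle ring from its projection and its truncation. -/
theorem exists_lift_pair {C : Type w} [CommRing C] [Algebra A C] (g : C →ₐ[A] B)
    (h : C →ₐ[A] X.E ⧸ liftIdeal X J ^ N)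
    (hgh : ∀ c, ∃ x, X.proj x = g c ∧ Ideal.Quotient.mk _ x = h c) :
    ∃ f : C →ₐ[A] X.E, (∀ c, X.proj (f c) = g c) ∧
      ∀ c, Ideal.Quotient.mk (liftIdeal X J ^ N) (f c) = h c := by
  let ψ : X.E →ₐ[A] B × (X.E ⧸ liftIdeal X J ^ N) := X.proj.prod (Ideal.Quotient.mkₐ A _)
  have hψ : Function.Injective ψ := fun x y e =>
    eq_of_trunc hX (congrArg Prod.fst e) (congrArg Prod.snd e)
  let k : C →ₐ[A] ψ.range := (g.prod h).codRestrict ψ.range fun c => by
    obtain ⟨x, h₁, h₂⟩ := hgh c
    exact ⟨x, Prod.ext h₁ h₂⟩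
  refine ⟨(AlgEquiv.ofInjective ψ hψ).symm.toAlgHom.comp k, fun c => ?_, fun c => ?_⟩
  all_goals
    have e := congrArg Subtype.val ((AlgEquiv.ofInjective ψ hψ).apply_symm_apply (k c))
  · exact congrArg Prod.fst e
  · exact congrArg Prod.snd e

end Pair

end Groth.Agent.ExalTrunc
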