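import Groth.Agent.ExalTrunc.Basic

/-!
# The middle ring of an extension of a Noetherian local ring
-/

set_option autoImplicit false

universe u v

namespace Groth.Agent.ExalTrunc

open Exal IsLocalRing

variable {A : Type u} {B L : Type v} [CommRing A] [CommRing B] [Algebra A B] [AddCommGroup L] [Module B L]

theorem isUnit_of_isUnit_proj (X : Ext A B L) {x : X.E} (h : IsUnit (X.proj x)) : IsUnit x := by
  obtain ⟨r, hr⟩ := isUnit_iff_exists_inv.1 h
  obtain ⟨y, rfl⟩ := X.isExtension.proj_surjective r
  have h0 : X.proj (x * y - 1) = 0 := by rw [map_sub, map_mul, hr, map_one, sub_self]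
  obtain ⟨z, hz⟩ := (X.isExtension.exact _).1 h0
  have hnil : IsNilpotent (x * y - 1) := ⟨2, by
    rw [pow_two, ← hz, Groth.Agent.ExalLib.incl_mul_incl]⟩
  have hu := hnil.isUnit_one_add
  rw [add_sub_cancel] at hu
  exact isUnit_of_mul_isUnit_left hu

theorem isLocalRing_mid [IsLocalRing B] (X : Ext A B L) : IsLocalRing X.E := by
  haveI : Nontrivial X.E := X.proj.toRingHom.domain_nontrivial
  refine IsLocalRing.of_isUnit_or_isUnit_one_sub_self fun x => ?_
  rcases IsLocalRing.isUnit_or_isUnit_one_sub_self (X.proj x) with h | h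
  · exact Or.inl (isUnit_of_isUnit_proj X h)
  · exact Or.inr (isUnit_of_isUnit_proj X (by rwa [map_sub, map_one]))

theorem mem_maximalIdeal_mid [IsLocalRing B] (X : Ext A B L) [IsLocalRing X.E] (x : X.E) :
    x ∈ maximalIdeal X.E ↔ x ∈ liftIdeal X (maximalIdeal B) := by
  rw [mem_liftIdeal, IsLocalRing.mem_maximalIdeal, IsLocalRing.mem_maximalIdeal, mem_nonunits_iff,
    mem_nonunits_iff]
  exact not_congr ⟨fun h => h.map X.proj, isUnit_of_isUnit_proj X⟩

theorem isNoetherianRing_mid [IsNoetherianRing B] [IsNoetherian B L] (X : Ext A B L) :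
    IsNoetherianRing X.E := by
  classical
  rw [isNoetherianRing_iff_ideal_fg]
  intro P
  obtain ⟨s, hs⟩ := (IsNoetherian.noetherian (Ideal.map X.proj P) : (Ideal.map X.proj P).FG)
  have hlift : ∀ b ∈ s, ∃ x ∈ P, X.proj x = b := fun b hb =>
    (Ideal.mem_map_iff_of_surjective _ X.isExtension.proj_surjective).1
      (hs ▸ Submodule.subset_span hb)
  choose g hgP hg using hlift
  let L' : Submodule B L :=
    { carrier := {z | X.incl z ∈ P}
      zero_mem' := by simp
      add_mem' := fun {a b} ha hb => by
        simp only [Set.mem_ofPred_eq, map_add]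
        exact add_mem ha hb
      smul_mem' := fun r z hz => by
        obtain ⟨x, rfl⟩ := X.isExtension.proj_surjective r
        simp only [Set.mem_ofPred_eq, ← X.isExtension.mul_incl]
        exact P.mul_mem_left _ hz }
  obtain ⟨t, ht⟩ := (IsNoetherian.noetherian L' : L'.FG)
  let S : Finset X.E := (s.attach.image fun b => g b.1 b.2) ∪ t.image X.incl
  refine ⟨S, le_antisymm (Submodule.span_le.2 fun x hx => ?_) fun x hx => ?_⟩
  · simp only [S, Finset.coe_union, Finset.coe_image, Set.mem_union, Set.mem_image] at hx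
    rcases hx with ⟨b, _, rfl⟩ | ⟨z, hz, rfl⟩
    · exact hgP _ _
    · exact (ht ▸ Submodule.subset_span hz : z ∈ L')
  · have h1 : X.proj x ∈ Submodule.span B (s : Set B) := hs ▸ Ideal.mem_map_of_mem _ hx
    have h2 : ∀ b ∈ Submodule.span B (s : Set B), ∃ y ∈ Submodule.span X.E (S : Set X.E), X.proj y = b := by
      intro b hb
      induction hb using Submodule.span_induction with
      | mem b hb =>
        refine ⟨g b hb, Submodule.subset_span ?_, hg b hb⟩
        simp only [S, Finset.coe_union, Set.mem_union]
        exact Or.inl (Finset.mem_image.2 ⟨⟨b, hb⟩, Finset.mem_attach _ _, rfl⟩)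
      | zero => exact ⟨0, zero_mem _, map_zero _⟩
      | add a b _ _ ha hb =>
        obtain ⟨y, hy, rfl⟩ := ha
        obtain ⟨y', hy', rfl⟩ := hb
        exact ⟨y + y', add_mem hy hy', map_add _ _ _⟩
      | smul r b _ hb =>
        obtain ⟨y, hy, rfl⟩ := hb
        obtain ⟨r', rfl⟩ := X.isExtension.proj_surjective r
        exact ⟨r' • y, Submodule.smul_mem _ _ hy, by rw [smul_eq_mul, smul_eq_mul, map_mul]⟩
    obtain ⟨y, hy, hy'⟩ := h2 _ h1
    have hyP : y ∈ P := by
      refine (Submodule.span_le.2 fun x hx => ?_) hy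
      simp only [S, Finset.coe_union, Finset.coe_image, Set.mem_union, Set.mem_image] at hx
      rcases hx with ⟨b, _, rfl⟩ | ⟨z, hz, rfl⟩
      · exact hgP _ _
      · exact (ht ▸ Submodule.subset_span hz : z ∈ L')
    obtain ⟨z, hz⟩ := (X.isExtension.exact (x - y)).1 (by rw [map_sub, hy', sub_self])
    have hzL : z ∈ Submodule.span B (t : Set L) := by
      rw [ht]; show X.incl z ∈ P; rw [hz]; exact sub_mem hx hyP
    have h3 : ∀ z ∈ Submodule.span B (t : Set L), X.incl z ∈ Submodule.span X.E (S : Set X.E) := by
      intro z hz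
      induction hz using Submodule.span_induction with
      | mem z hz =>
        refine Submodule.subset_span ?_
        simp only [S, Finset.coe_union, Set.mem_union]
        exact Or.inr (Finset.mem_image.2 ⟨z, hz, rfl⟩)
      | zero => rw [map_zero]; exact zero_mem _
      | add a b _ _ ha hb => rw [map_add]; exact add_mem ha hb
      | smul r z _ hz =>
        obtain ⟨r', rfl⟩ := X.isExtension.proj_surjective r
        rw [← X.isExtension.mul_incl]
        exact Submodule.smul_mem _ r' hz
    rw [← sub_add_cancel x y, ← hz]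
    exact add_mem (h3 z hzL) hy

theorem smul_residueField_eq_zero [IsLocalRing B] {j : B} (hj : j ∈ maximalIdeal B) (z : ResidueField B) :
    j • z = 0 := by
  rw [Algebra.smul_def, ResidueField.algebraMap_eq, (residue_eq_zero_iff j).2 hj, zero_mul]

theorem isNoetherian_residueField [IsLocalRing B] [IsNoetherianRing B] :
    IsNoetherian B (ResidueField B) :=
  isNoetherian_of_surjective (Algebra.linearMap B (ResidueField B))
    (LinearMap.range_eq_top.2 residue_surjective)

end Groth.Agent.ExalTrunc
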