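import Groth.Agent.ExalLib.Basic
import Mathlib

/-!
# Trivial extensions are equivalent to the trivial one
-/

set_option autoImplicit false
set_option backward.isDefEq.respectTransparency false

universe u v

namespace Groth.Agent.ExalTrunc

open Exal

attribute [local instance] Exal.opModule Exal.isCentralScalar_opModule

variable {A : Type u} {B L : Type v} [CommRing A] [CommRing B] [Algebra A B] [AddCommGroup L] [Module B L]

theorem isTrivial_trivial : (Ext.trivial A B L).IsTrivial :=
  ⟨{ toRingHom := (TrivSqZeroExt.inlHom B L : B →+* TrivSqZeroExt B L)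
     commutes' := fun _ => rfl }, fun _ => rfl⟩

theorem equiv_trivial_of_isTrivial {X : Ext A B L} (h : X.IsTrivial) :
    Nonempty ((Ext.trivial A B L).Equiv X) := by
  obtain ⟨s, hs⟩ := h
  let f : TrivSqZeroExt B L → X.E := fun x =>
    s (TrivSqZeroExt.fst x) + X.incl (TrivSqZeroExt.snd x)
  have hmul : ∀ x y, f (x * y) = f x * f y := fun x y => by
    show s (x * y).fst + X.incl (x * y).snd = _
    rw [TrivSqZeroExt.fst_mul, TrivSqZeroExt.snd_mul, map_mul, op_smul_eq_smul, map_add]
    show _ = (s (TrivSqZeroExt.fst x) + X.incl (TrivSqZeroExt.snd x)) *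
      (s (TrivSqZeroExt.fst y) + X.incl (TrivSqZeroExt.snd y))
    have h1 := X.isExtension.mul_incl (s (TrivSqZeroExt.fst x)) (TrivSqZeroExt.snd y)
    have h2 := X.isExtension.mul_incl (s (TrivSqZeroExt.fst y)) (TrivSqZeroExt.snd x)
    rw [hs] at h1 h2
    linear_combination -h1 - h2 -
      Groth.Agent.ExalLib.incl_mul_incl X (TrivSqZeroExt.snd x) (TrivSqZeroExt.snd y)
  refine ⟨Groth.Agent.ExalLib.mkEquiv
    { toFun := f
      map_one' := by
        show s (TrivSqZeroExt.fst (1 : TrivSqZeroExt B L)) + X.incl (TrivSqZeroExt.snd (1 : TrivSqZeroExt B L)) = 1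
        rw [TrivSqZeroExt.fst_one, TrivSqZeroExt.snd_one, map_one, map_zero, add_zero]
      map_mul' := fun (x y : TrivSqZeroExt B L) => hmul x y
      map_zero' := by
        show s (TrivSqZeroExt.fst (0 : TrivSqZeroExt B L)) + X.incl (TrivSqZeroExt.snd (0 : TrivSqZeroExt B L)) = 0
        rw [TrivSqZeroExt.fst_zero, TrivSqZeroExt.snd_zero, map_zero, map_zero, add_zero]
      map_add' := fun (x y : TrivSqZeroExt B L) => by
        show s (x + y).fst + X.incl (x + y).snd = f x + f y
        rw [TrivSqZeroExt.fst_add, TrivSqZeroExt.snd_add, map_add, map_add]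
        show _ = s _ + X.incl _ + (s _ + X.incl _)
        abel
      commutes' := fun a => by
        show s (TrivSqZeroExt.fst (TrivSqZeroExt.inl (algebraMap A B a) : TrivSqZeroExt B L))
          + X.incl (TrivSqZeroExt.snd (TrivSqZeroExt.inl (algebraMap A B a) : TrivSqZeroExt B L)) = _
        rw [TrivSqZeroExt.fst_inl, TrivSqZeroExt.snd_inl, map_zero, add_zero, AlgHom.commutes] }
    (fun x => ?_) fun z => ?_⟩
  · show X.proj (s _ + X.incl _) = TrivSqZeroExt.fst x
    rw [map_add, hs, Groth.Agent.ExalLib.proj_incl, add_zero]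
  · show s (TrivSqZeroExt.fst (TrivSqZeroExt.inr z : TrivSqZeroExt B L))
      + X.incl (TrivSqZeroExt.snd (TrivSqZeroExt.inr z : TrivSqZeroExt B L)) = X.incl z
    rw [TrivSqZeroExt.fst_inr, TrivSqZeroExt.snd_inr, map_zero, zero_add]

theorem equiv_of_isTrivial {X Y : Ext A B L} (hX : X.IsTrivial) (hY : Y.IsTrivial) :
    Nonempty (X.Equiv Y) := by
  obtain ⟨e⟩ := equiv_trivial_of_isTrivial hX
  obtain ⟨f⟩ := equiv_trivial_of_isTrivial hY
  exact ⟨e.symm.trans f⟩

end Groth.Agent.ExalTrunc
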